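import Mathlib
import Cfsg.Agent.Helper7.ReeTorF
import Cfsg.Agent.Helper7.ChevRee26
import Cfsg.Agent.Helper8.LSH
import Cfsg.Agent.LS3.H2_Heis

set_option autoImplicit false

/-! The Landazuri–Seitz type bound `q² - q + 1` for the small Ree groups `²G₂(q)`.

`Z = {ru 0 0 v}` is the centre of the Sylow `3`-subgroup; the torus acts regularly on `Z ∖ 1`, the
Heisenberg step gives `q` for each of the `q - 1` non-trivial weights, so `k ≥ q (q - 1)`.  If
`k = q (q - 1)` there is no `Z`-fixed vector, the involution of the torus (which inverts `Z`) has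
trace `0`, hence so do all involutions, and a four-group of involutions forces `4 ∣ k`, which is
false as `q ≡ 3 (mod 4)`. -/

namespace Cfsg.Agent.ReeLS

open Cfsg Cfsg.Lie Matrix Cfsg.Agent.Helper7.Chev Cfsg.Agent.Helper7.ReeAut
  Cfsg.Agent.Helper7.ReeTor Cfsg.Agent.Helper8.LS Cfsg.Agent.LS3

section general

theorem rl_rep_apply_injective {G : Type*} [Group G] {V : Type*} [AddCommGroup V] [Module ℂ V]
    (ρ : G →* Module.End ℂ V) (g : G) : Function.Injective (ρ g) := by
  intro v w hvw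
  have h1 : ρ g⁻¹ (ρ g v) = ρ g⁻¹ (ρ g w) := by rw [hvw]
  rw [← Module.End.mul_apply, ← Module.End.mul_apply, ← map_mul, inv_mul_cancel, map_one] at h1
  exact h1

theorem rl_hasEnough_complex (A : Type*) [CommGroup A] [Finite A] :
    HasEnoughRootsOfUnity ℂ (Monoid.exponent A) := by
  have : NeZero (Monoid.exponent A) := ⟨Monoid.exponent_ne_zero_of_finite⟩
  infer_instance

theorem rl_card_ne_zero (A : Type*) [Fintype A] [Nonempty A] : (Fintype.card A : ℂ) ≠ 0 :=
  Nat.cast_ne_zero.mpr Fintype.card_ne_zero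

/-- the trace of a conjugate. -/
theorem rl_trace_conj {G : Type*} [Group G] {V : Type*} [AddCommGroup V] [Module ℂ V]
    (ρ : G →* Module.End ℂ V) (k a : G) :
    LinearMap.trace ℂ V (ρ (k * a * k⁻¹)) = LinearMap.trace ℂ V (ρ a) := by
  rw [ρ.map_mul, ρ.map_mul, mul_assoc, LinearMap.trace_mul_comm, mul_assoc, ← ρ.map_mul,
    inv_mul_cancel, ρ.map_one, mul_one]

end general

section arith

/-- `q = 3^(2m+1)` is `3` modulo `4`. -/
theorem rl_q_mod_four (m : ℕ) : 3 ^ (2 * m + 1) % 4 = 3 := by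
  rw [pow_succ, pow_mul, Nat.mul_mod, Nat.pow_mod]
  norm_num

theorem rl_not_four_dvd (m : ℕ) : ¬ 4 ∣ (3 ^ (2 * m + 1) - 1) * 3 ^ (2 * m + 1) := by
  have h := rl_q_mod_four m
  generalize 3 ^ (2 * m + 1) = q at h ⊢
  intro hd
  have h1 : (q - 1) % 4 = 2 := by omega
  have h2 : ((q - 1) * q) % 4 = 2 := by
    rw [Nat.mul_mod, h1, h]
  omega

end arith

section ree

variable {K : Type*} [Field K] [Fintype K] [CharP K 3] {m : ℕ}

/-- the centre `Z` of the Sylow `3`-subgroup. -/
noncomputable def zHom (hK : Fintype.card K = 3 ^ (2 * m + 1)) :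
    Multiplicative K →* ↥(twistedG2 K (3 ^ m)) where
  toFun v := ruS m 0 0 (Multiplicative.toAdd v)
  map_one' := ruS_zero
  map_mul' := by
    intro v w
    rw [ruS_add hK, add_zero]
    rfl

theorem zHom_apply (hK : Fintype.card K = 3 ^ (2 * m + 1)) (v : K) :
    zHom hK (Multiplicative.ofAdd v) = ruS m 0 0 v := rfl

/-- the derived subgroup `P'` of the Sylow `3`-subgroup. -/
noncomputable def pHom (hK : Fintype.card K = 3 ^ (2 * m + 1)) :
    Multiplicative (K × K) →* ↥(twistedG2 K (3 ^ m)) where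
  toFun a := ruS m 0 (Multiplicative.toAdd a).1 (Multiplicative.toAdd a).2
  map_one' := ruS_zero
  map_mul' := by
    intro a b
    rw [ruS_add hK]
    rfl

theorem pHom_apply (hK : Fintype.card K = 3 ^ (2 * m + 1)) (u v : K) :
    pHom hK (Multiplicative.ofAdd (u, v)) = ruS m 0 u v := rfl

/-- `x(i) y(u,v) = y(u, v + i u) x(i)`. -/
theorem rl_x_mul_p (hK : Fintype.card K = 3 ^ (2 * m + 1)) (i u v : K) :
    ruS m i 0 0 * ruS m 0 u v = ruS m 0 u (v + i * u) * ruS m i 0 0 := by
  rw [ruS_mul hK, ruS_mul hK]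
  congr 1 <;> simp

theorem rl_torus_z (hK : Fintype.card K = 3 ^ (2 * m + 1)) (s : Kˣ) (v : K) :
    ghS hK s * ruS m 0 0 v = ruS m 0 0 ((s : K) * v) * ghS hK s := by
  have h := ghS_conj_ruS hK s 0 0 v
  rw [mul_zero, mul_zero] at h
  rw [← h]
  group

theorem rl_aS_z (hK : Fintype.card K = 3 ^ (2 * m + 1)) (v : K) :
    aS hK * ruS m 0 0 v = ruS m 0 0 (-v) * aS hK := by
  have h := aS_conj_ruS hK 0 0 v
  rw [neg_zero] at h
  rw [← h]
  group

end ree

section weights

variable {K : Type*} [Field K] [Fintype K] [CharP K 3] {m : ℕ}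
variable {V : Type*} [AddCommGroup V] [Module ℂ V] [Module.Finite ℂ V]

omit [Module.Finite ℂ V] in
/-- every non-trivial character of `Z` is a weight. -/
theorem rl_all_weights (hK : Fintype.card K = 3 ^ (2 * m + 1))
    (ρ : ↥(twistedG2 K (3 ^ m)) →* Module.End ℂ V) (hρ : Function.Injective ρ) :
    ∃ ψ : Multiplicative K →* ℂˣ, ψ ≠ 1 ∧
      ∀ c : K, c ≠ 0 → wt (ρ.comp (zHom hK)) (scalChar ψ c) ≠ ⊥ := by
  classical
  have hE : HasEnoughRootsOfUnity ℂ (Monoid.exponent (Multiplicative K)) :=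
    rl_hasEnough_complex _
  obtain ⟨ψ, hψ⟩ := exists_char_ne_one (F := K) (K := ℂ)
  refine ⟨ψ, hψ, ?_⟩
  set T := ρ.comp (zHom hK) with hT
  have hA : (Fintype.card (Multiplicative K) : ℂ) ≠ 0 := rl_card_ne_zero _
  have hz : T (Multiplicative.ofAdd 1) ≠ 1 := by
    intro h1
    have h2 : zHom hK (Multiplicative.ofAdd 1) = 1 :=
      hρ ((show ρ (zHom hK (Multiplicative.ofAdd 1)) = 1 from h1).trans (map_one ρ).symm)
    rw [zHom_apply, ← ruS_zero (m := m)] at h2
    exact one_ne_zero (ruS_injective h2).2.2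
  obtain ⟨χ, hχne, hχ1⟩ := exists_wt_ne_bot T hA _ hz
  obtain ⟨c0, rfl⟩ := (scalChar_bijective hψ).2 χ
  have hc0 : c0 ≠ 0 := by
    rintro rfl
    apply hχ1
    rw [scalChar_zero]
    rfl
  intro c hc
  have hs0 : c0 / c ≠ 0 := div_ne_zero hc0 hc
  refine wt_ne_bot_of_conj' T (ρ (ghS hK (Units.mk0 (c0 / c) hs0))) (rl_rep_apply_injective ρ _)
    (scalChar ψ c) (scalChar ψ c0) ?_ hχne
  intro a'
  refine ⟨Multiplicative.ofAdd ((c0 / c)⁻¹ * Multiplicative.toAdd a'), ?_, ?_⟩
  · have h1 : ghS hK (Units.mk0 (c0 / c) hs0)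
        * zHom hK (Multiplicative.ofAdd ((c0 / c)⁻¹ * Multiplicative.toAdd a'))
        = zHom hK a' * ghS hK (Units.mk0 (c0 / c) hs0) := by
      rw [zHom_apply, rl_torus_z, Units.val_mk0, ← mul_assoc, mul_inv_cancel₀ hs0, one_mul,
        ← zHom_apply]
      rfl
    rw [hT, MonoidHom.comp_apply, MonoidHom.comp_apply, ← map_mul, ← map_mul, h1]
  · have h2 : scalChar ψ c a' = ψ (Multiplicative.ofAdd (c * Multiplicative.toAdd a')) := rfl
    have h3 : c0 * ((c0 / c)⁻¹ * Multiplicative.toAdd a') = c * Multiplicative.toAdd a' := by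
      field_simp
    rw [scalChar_apply, h2, h3]

/-- **Heisenberg step**: a non-trivial weight space of `Z` has dimension at least `q`. -/
theorem rl_heis (hK : Fintype.card K = 3 ^ (2 * m + 1))
    (ρ : ↥(twistedG2 K (3 ^ m)) →* Module.End ℂ V)
    (lam : Multiplicative K →* ℂˣ) (hlam : lam ≠ 1)
    (hne : wt (ρ.comp (zHom hK)) lam ≠ ⊥) :
    Fintype.card K ≤ Module.finrank ℂ (wt (ρ.comp (zHom hK)) lam) := by
  classical
  have hE : HasEnoughRootsOfUnity ℂ (Monoid.exponent (Multiplicative (K × K))) :=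
    rl_hasEnough_complex _
  have hA : (Fintype.card (Multiplicative (K × K)) : ℂ) ≠ 0 := rl_card_ne_zero _
  set T := ρ.comp (zHom hK) with hT
  -- `Z ≤ P'`
  have hzp : ∀ v : K, zHom hK (Multiplicative.ofAdd v) = pHom hK (Multiplicative.ofAdd (0, v)) :=
    fun v => rfl
  -- `P'` is abelian, so it commutes with `Z`
  have hcomm : ∀ (a : Multiplicative (K × K)) (z : Multiplicative K),
      ρ (pHom hK a) * T z = T z * ρ (pHom hK a) := by
    intro a z
    show ρ (pHom hK a) * ρ (zHom hK z) = ρ (zHom hK z) * ρ (pHom hK a)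
    have hz : z = Multiplicative.ofAdd (Multiplicative.toAdd z) := rfl
    rw [hz, hzp, ← map_mul, ← map_mul, ← map_mul, ← map_mul, mul_comm]
  -- the characters `κ i`
  let κ : K → (Multiplicative (K × K) →* ℂˣ) := fun i =>
    lam.comp (AddMonoidHom.toMultiplicative
      ((AddMonoidHom.mulLeft (-i)).comp (AddMonoidHom.fst K K)))
  have hκ_apply : ∀ (i u v : K), κ i (Multiplicative.ofAdd (u, v))
      = lam (Multiplicative.ofAdd (-i * u)) := fun i u v => rfl
  have hκ : Function.Injective κ := by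
    intro i i' hii
    by_contra hne'
    apply hlam
    have hd : i' - i ≠ 0 := sub_ne_zero.mpr (Ne.symm hne')
    refine MonoidHom.ext (fun t' => ?_)
    set t : K := Multiplicative.toAdd t' with ht
    have h1 := DFunLike.congr_fun hii (Multiplicative.ofAdd (t / (i' - i), 0))
    rw [hκ_apply, hκ_apply] at h1
    have h2 : Multiplicative.ofAdd t = Multiplicative.ofAdd (-i * (t / (i' - i)))
        * (Multiplicative.ofAdd (-i' * (t / (i' - i))))⁻¹ := by
      rw [← ofAdd_neg, ← ofAdd_add]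
      congr 1
      field_simp
      ring
    have h3 : lam (Multiplicative.ofAdd t) = 1 := by
      rw [h2, map_mul, map_inv, h1, mul_inv_cancel]
    exact h3
  refine h2_heis hA (ρ.comp (pHom hK)) (wt T lam) hne ?_ (fun i : K => ρ (ruS m i 0 0))
    (fun i => rl_rep_apply_injective ρ _) ?_ κ hκ ?_
  · -- `P'` stabilises the weight space
    intro a w hw z
    have h1 := congrArg (fun f : Module.End ℂ V => f w) (hcomm a z)
    simp only [Module.End.mul_apply] at h1
    show T z (ρ (pHom hK a) w) = _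
    rw [← h1, hw z, map_smul]
    rfl
  · -- `x(i)` stabilises the weight space
    intro i w hw z
    have hz : z = Multiplicative.ofAdd (Multiplicative.toAdd z) := rfl
    have h0 : ρ (ruS m i 0 0) * T z = T z * ρ (ruS m i 0 0) := by
      show ρ (ruS m i 0 0) * ρ (zHom hK z) = ρ (zHom hK z) * ρ (ruS m i 0 0)
      rw [hz, zHom_apply, ← map_mul, ← map_mul, rl_x_mul_p hK, mul_zero, add_zero]
    have h1 := congrArg (fun f : Module.End ℂ V => f w) h0
    simp only [Module.End.mul_apply] at h1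
    show T z (ρ (ruS m i 0 0) w) = _
    rw [← h1, hw z, map_smul]
  · -- the twist
    intro i a w hw
    set u := (Multiplicative.toAdd a).1 with hu
    set v := (Multiplicative.toAdd a).2 with hv
    have ha' : a = Multiplicative.ofAdd (u, v) := rfl
    -- `y(u,v) x(i) = x(i) y(u, v - i u) = x(i) y(u,v) z(-i u)`
    have h0 : pHom hK a * ruS m i 0 0
        = ruS m i 0 0 * (pHom hK a * zHom hK (Multiplicative.ofAdd (-i * u))) := by
      rw [ha', pHom_apply, zHom_apply, ruS_add hK, add_zero, rl_x_mul_p hK]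
      congr 2
      ring
    show ρ (pHom hK a) (ρ (ruS m i 0 0) w) = _
    rw [← Module.End.mul_apply, ← map_mul, h0, map_mul, map_mul, Module.End.mul_apply,
      Module.End.mul_apply]
    have h1 : ρ (zHom hK (Multiplicative.ofAdd (-i * u))) w
        = ((lam (Multiplicative.ofAdd (-i * u)) : ℂˣ) : ℂ) • w := hw _
    rw [h1, map_smul, map_smul, ha', hκ_apply]
    rfl

end weights

end Cfsg.Agent.ReeLS
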