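import Mathlib
import Cfsg.Agent.Helper8.LSA

set_option autoImplicit false

/-! An operator that inverts a finite abelian group of operators none of whose weights is
self-inverse has trace `0`. -/

namespace Cfsg.Agent.ReeLS

open Cfsg.Agent.Helper8.LS

section

variable {V : Type*} [AddCommGroup V] [Module ℂ V]
variable {A : Type*} [CommGroup A] [Fintype A]

theorem rl_g_mul_pr (T : A →* Module.End ℂ V) (g : Module.End ℂ V)
    (hg : ∀ z : A, g * T z = T z⁻¹ * g) (χ : A →* ℂˣ) : g * pr T χ = pr T χ⁻¹ * g := by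
  unfold pr
  rw [Finset.mul_sum, Finset.sum_mul]
  refine Fintype.sum_equiv (Equiv.inv A) _ _ (fun a => ?_)
  simp only [Equiv.inv_apply, MonoidHom.inv_apply, map_inv, inv_inv]
  rw [mul_smul_comm, smul_mul_assoc, hg]

theorem rl_pr_mul_pr_self (T : A →* Module.End ℂ V) (χ : A →* ℂˣ) :
    pr T χ * pr T χ = (Fintype.card A : ℂ) • pr T χ := by
  classical
  ext v
  rw [Module.End.mul_apply, pr_apply_of_mem T (pr_apply_mem T χ v), if_pos rfl]
  rfl

theorem rl_pr_mul_pr_ne (T : A →* Module.End ℂ V) {χ χ' : A →* ℂˣ} (h : χ ≠ χ') :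
    pr T χ * pr T χ' = 0 := by
  classical
  ext v
  rw [Module.End.mul_apply, pr_apply_of_mem T (pr_apply_mem T χ' v), if_neg h]
  rfl

theorem rl_pr_eq_zero (T : A →* Module.End ℂ V) {χ : A →* ℂˣ} (h : wt T χ = ⊥) :
    pr T χ = 0 := by
  ext v
  have h1 := pr_apply_mem T χ v
  rw [h, Submodule.mem_bot] at h1
  rw [h1]
  rfl

theorem rl_trace_zero_of_inv (T : A →* Module.End ℂ V) (g : Module.End ℂ V)
    (hg : ∀ z : A, g * T z = T z⁻¹ * g)
    (h : ∀ χ : A →* ℂˣ, wt T χ ≠ ⊥ → χ⁻¹ ≠ χ) : LinearMap.trace ℂ V g = 0 := by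
  classical
  have : Fintype (A →* ℂˣ) := Fintype.ofFinite _
  have hE : HasEnoughRootsOfUnity ℂ (Monoid.exponent A) := by
    have : NeZero (Monoid.exponent A) := ⟨Monoid.exponent_ne_zero_of_finite⟩
    infer_instance
  have hA : (Fintype.card A : ℂ) ≠ 0 := Nat.cast_ne_zero.mpr Fintype.card_ne_zero
  have hχ : ∀ χ : A →* ℂˣ, LinearMap.trace ℂ V (g * pr T χ) = 0 := by
    intro χ
    by_cases hw : wt T χ = ⊥
    · rw [rl_pr_eq_zero T hw, mul_zero, map_zero]
    · have hne := h χ hw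
      have h1 : (Fintype.card A : ℂ) • LinearMap.trace ℂ V (g * pr T χ) = 0 := by
        rw [← map_smul, ← mul_smul_comm, ← rl_pr_mul_pr_self, ← mul_assoc, rl_g_mul_pr T g hg,
          LinearMap.trace_mul_comm, ← mul_assoc, rl_pr_mul_pr_ne T (Ne.symm hne), zero_mul,
          map_zero]
      rcases smul_eq_zero.mp h1 with h2 | h2
      · exact absurd h2 hA
      · exact h2
  have hsum : ∑ χ : A →* ℂˣ, pr T χ = (Fintype.card A : ℂ) • (1 : Module.End ℂ V) := by
    rw [← finsum_pr T, finsum_eq_sum_of_fintype]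
  have h1 : (Fintype.card A : ℂ) • LinearMap.trace ℂ V g = 0 := by
    rw [← map_smul]
    have h2 : (Fintype.card A : ℂ) • g = ∑ χ : A →* ℂˣ, g * pr T χ := by
      rw [← Finset.mul_sum, hsum, mul_smul_comm, mul_one]
    rw [h2, map_sum]
    exact Finset.sum_eq_zero (fun χ _ => hχ χ)
  rcases smul_eq_zero.mp h1 with h2 | h2
  · exact absurd h2 hA
  · exact h2

end

end Cfsg.Agent.ReeLS
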