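import Mathlib

set_option autoImplicit false

/-!
# S2343 swarm piece P2 (helper4): two commuting involutions with `tr a = tr b = tr (ab) = 0`
force `4 ∣ dim V`.
-/

namespace Cfsg.Agent.ReeLS

theorem h4_four_dvd_finrank {V : Type*} [AddCommGroup V] [Module ℂ V] [Module.Finite ℂ V]
    (a b : Module.End ℂ V) (ha : a * a = 1) (hb : b * b = 1) (hab : a * b = b * a)
    (ta : LinearMap.trace ℂ V a = 0) (tb : LinearMap.trace ℂ V b = 0)
    (tab : LinearMap.trace ℂ V (a * b) = 0) : 4 ∣ Module.finrank ℂ V := by
  -- the idempotent `e = (1 + a + b + ab) / 4`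
  set s : Module.End ℂ V := 1 + a + b + a * b with hs
  have hbab : b * (a * b) = a := by
    rw [← mul_assoc, ← hab, mul_assoc, hb, mul_one]
  have haab : a * (a * b) = b := by rw [← mul_assoc, ha, one_mul]
  have habab : a * b * (a * b) = 1 := by
    rw [mul_assoc, hbab, ha]
  have haba : a * b * a = b := by rw [hab, mul_assoc, ha, mul_one]
  have habb : a * b * b = a := by rw [mul_assoc, hb, mul_one]
  have hba : b * a = a * b := hab.symm
  have hss : s * s = (4 : ℂ) • s := by
    rw [hs]
    simp only [mul_add, add_mul, mul_one, one_mul, ha, hb, haab, hbab, habab, haba, habb, hba]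
    rw [show (4 : ℂ) • (1 + a + b + a * b : Module.End ℂ V)
      = (1 + a + b + a * b) + (1 + a + b + a * b) + (1 + a + b + a * b) + (1 + a + b + a * b) by
        rw [show (4 : ℂ) = 1 + 1 + 1 + 1 by norm_num]
        simp only [add_smul, one_smul]]
    abel
  set e : Module.End ℂ V := (4 : ℂ)⁻¹ • s with he
  have hee : IsIdempotentElem e := by
    show e * e = e
    rw [he, smul_mul_smul_comm, hss, smul_smul]
    congr 1
    norm_num
  have hproj := LinearMap.IsIdempotentElem.isProj_range e hee
  have htr := hproj.trace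
  have hte : LinearMap.trace ℂ V e = (4 : ℂ)⁻¹ * (Module.finrank ℂ V : ℂ) := by
    rw [he, map_smul, hs, map_add, map_add, map_add, ta, tb, tab, LinearMap.trace_one]
    simp
  rw [hte] at htr
  have h4 : (Module.finrank ℂ V : ℂ) = ((4 * Module.finrank ℂ (LinearMap.range e) : ℕ) : ℂ) := by
    push_cast
    rw [← htr]
    ring
  have h5 : Module.finrank ℂ V = 4 * Module.finrank ℂ (LinearMap.range e) := by
    exact_mod_cast h4
  exact ⟨_, h5⟩

end Cfsg.Agent.ReeLS
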