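import Mathlib
import Cfsg.Agent.ReeLS.H1_Main
import Cfsg.Agent.Helper8.LSL
import Cfsg.Agent.Helper7.ReeInvE
import Cfsg.Agent.ReeLS.H1_TraceZero
import Cfsg.Agent.ReeLS.H4_FourDvd

set_option autoImplicit false

/-! Assembly of the bound `q² - q + 1` for the small Ree groups. -/

namespace Cfsg.Agent.ReeLS

open Cfsg Cfsg.Lie Matrix Cfsg.Agent.Helper7.Chev Cfsg.Agent.Helper7.ReeAut
  Cfsg.Agent.Helper7.ReeTor Cfsg.Agent.Helper8.LS Cfsg.Agent.LS3

section count

variable {K : Type*} [Field K] [Fintype K]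
variable {V : Type*} [AddCommGroup V] [Module ℂ V] [Module.Finite ℂ V]

theorem rl_count (T : Multiplicative K →* Module.End ℂ V) (ψ : Multiplicative K →* ℂˣ)
    (hψ : ψ ≠ 1)
    (h : ∀ c : K, c ≠ 0 → Fintype.card K ≤ Module.finrank ℂ (wt T (scalChar ψ c))) :
    Module.finrank ℂ (wt T 1) + (Fintype.card K - 1) * Fintype.card K ≤ Module.finrank ℂ V := by
  classical
  have hA : (Fintype.card (Multiplicative K) : ℂ) ≠ 0 := rl_card_ne_zero _
  have h1 := sum_finrank_le T hA (scalChar ψ) (scalChar_injective hψ)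
  rw [← Finset.add_sum_erase Finset.univ _ (Finset.mem_univ (0 : K)), scalChar_zero] at h1
  refine le_trans (Nat.add_le_add_left ?_ _) h1
  calc (Fintype.card K - 1) * Fintype.card K
      = ∑ _c ∈ Finset.univ.erase (0 : K), Fintype.card K := by
        rw [Finset.sum_const, Finset.card_erase_of_mem (Finset.mem_univ _), Finset.card_univ,
          smul_eq_mul]
    _ ≤ _ := Finset.sum_le_sum (fun c hc => h c (Finset.ne_of_mem_erase hc))

omit [Fintype K] in
theorem rl_char_cube [CharP K 3] (χ : Multiplicative K →* ℂˣ) (h : χ⁻¹ = χ) : χ = 1 := by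
  refine MonoidHom.ext (fun z => ?_)
  have h1 : (χ z)⁻¹ = χ z := DFunLike.congr_fun h z
  have h2 : z ^ 3 = 1 := by
    have hz : z = Multiplicative.ofAdd (Multiplicative.toAdd z) := rfl
    rw [hz, ← ofAdd_nsmul, nsmul_eq_mul]
    have h3 : ((3 : ℕ) : K) = 0 := CharP.cast_eq_zero K 3
    rw [h3, zero_mul]
    rfl
  have h3 : χ z ^ 3 = 1 := by rw [← map_pow, h2, map_one]
  have h4 : χ z * χ z = 1 := by
    nth_rewrite 1 [← h1]
    exact inv_mul_cancel _
  calc χ z = χ z ^ 3 * (χ z * χ z)⁻¹ := by group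
    _ = 1 := by rw [h3, h4]; simp

end count

section ree

variable {K : Type*} [Field K] [Fintype K] [CharP K 3] {m : ℕ}
variable {V : Type*} [AddCommGroup V] [Module ℂ V] [Module.Finite ℂ V]

omit [Module.Finite ℂ V] in
theorem rl_trace_aS (hK : Fintype.card K = 3 ^ (2 * m + 1))
    (ρ : ↥(twistedG2 K (3 ^ m)) →* Module.End ℂ V)
    (h1 : wt (ρ.comp (zHom hK)) 1 = ⊥) : LinearMap.trace ℂ V (ρ (aS hK)) = 0 := by
  refine rl_trace_zero_of_inv (ρ.comp (zHom hK)) (ρ (aS hK)) ?_ ?_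
  · intro z
    have hz : z = Multiplicative.ofAdd (Multiplicative.toAdd z) := rfl
    show ρ (aS hK) * ρ (zHom hK z) = ρ (zHom hK z⁻¹) * ρ (aS hK)
    rw [← map_mul, ← map_mul, hz, ← ofAdd_neg, zHom_apply, zHom_apply, rl_aS_z]
  · intro χ hχ hinv
    apply hχ
    rw [rl_char_cube χ hinv]
    exact h1

theorem rl_bS_ne_one (hK : Fintype.card K = 3 ^ (2 * m + 1)) : bS K m ≠ 1 := by
  intro h
  have h01 : (antiSL : Matrix.SpecialLinearGroup (Fin 2) K).val 0 1 = 1 := by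
    rw [antiSL_val]
    rfl
  rcases (rPhi_eq_one_iff hK antiSL).mp h with h1 | h1
  · rw [h1] at h01
    simp at h01
  · rw [h1] at h01
    simp at h01

theorem rl_bound (hm : 1 ≤ m) (hK : Fintype.card K = 3 ^ (2 * m + 1))
    (ρ : ↥(twistedG2 K (3 ^ m)) →* Module.End ℂ V) (hρ : Function.Injective ρ) :
    (3 ^ (2 * m + 1)) ^ 2 - 3 ^ (2 * m + 1) + 1 ≤ Module.finrank ℂ V := by
  classical
  obtain ⟨ψ, hψ, hw⟩ := rl_all_weights hK ρ hρ
  have hheis : ∀ c : K, c ≠ 0 →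
      Fintype.card K ≤ Module.finrank ℂ (wt (ρ.comp (zHom hK)) (scalChar ψ c)) := by
    intro c hc
    refine rl_heis hK ρ (scalChar ψ c) ?_ (hw c hc)
    intro h1
    rw [← scalChar_zero ψ] at h1
    exact hc (scalChar_injective hψ h1)
  have hcount := rl_count (ρ.comp (zHom hK)) ψ hψ hheis
  rw [hK] at hcount
  have hq1 : 1 ≤ 3 ^ (2 * m + 1) := Nat.one_le_pow _ _ (by norm_num)
  have hqq : (3 ^ (2 * m + 1)) ^ 2 - 3 ^ (2 * m + 1) + 1
      = (3 ^ (2 * m + 1) - 1) * 3 ^ (2 * m + 1) + 1 := by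
    obtain ⟨r, hr⟩ : ∃ r, 3 ^ (2 * m + 1) = r + 1 := ⟨3 ^ (2 * m + 1) - 1, by omega⟩
    rw [hr]
    have h2 : (r + 1) ^ 2 = (r + 1 - 1) * (r + 1) + (r + 1) := by
      rw [Nat.add_sub_cancel]
      ring
    omega
  rw [hqq]
  by_contra hlt
  push Not at hlt
  have hfr : Module.finrank ℂ V = (3 ^ (2 * m + 1) - 1) * 3 ^ (2 * m + 1) := by omega
  have hw1 : wt (ρ.comp (zHom hK)) 1 = ⊥ := by
    apply Submodule.finrank_eq_zero.mp
    omega
  have ta := rl_trace_aS hK ρ hw1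
  have hb1 : bS K m ≠ 1 := rl_bS_ne_one hK
  obtain ⟨kb, hkb⟩ := involution_conj hK hm hb1 (bS_mul_self hK)
  have hab1 : aS hK * bS K m ≠ 1 := by
    intro h
    have h2 : bS K m = aS hK := by
      calc bS K m = (aS hK * aS hK) * bS K m := by rw [aS_mul_aS, one_mul]
        _ = aS hK * (aS hK * bS K m) := by rw [mul_assoc]
        _ = aS hK := by rw [h, mul_one]
    exact rPhi_ne_aS hK antiSL h2
  have hab2 : (aS hK * bS K m) * (aS hK * bS K m) = 1 := by
    calc (aS hK * bS K m) * (aS hK * bS K m)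
        = aS hK * (bS K m * aS hK) * bS K m := by group
      _ = aS hK * (aS hK * bS K m) * bS K m := by rw [(aS_comm_bS hK).eq]
      _ = (aS hK * aS hK) * (bS K m * bS K m) := by group
      _ = 1 := by rw [aS_mul_aS, bS_mul_self hK, one_mul]
  obtain ⟨kab, hkab⟩ := involution_conj hK hm hab1 hab2
  have tb : LinearMap.trace ℂ V (ρ (bS K m)) = 0 := by
    rw [← hkb, rl_trace_conj]
    exact ta
  have tab : LinearMap.trace ℂ V (ρ (aS hK) * ρ (bS K m)) = 0 := by
    rw [← map_mul, ← hkab, rl_trace_conj]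
    exact ta
  have h4 := h4_four_dvd_finrank (ρ (aS hK)) (ρ (bS K m))
    (by rw [← map_mul, aS_mul_aS, map_one]) (by rw [← map_mul, bS_mul_self hK, map_one])
    (by rw [← map_mul, ← map_mul, (aS_comm_bS hK).eq]) ta tb tab
  rw [hfr] at h4
  exact rl_not_four_dvd m h4

end ree

/-- The statement of S2343. -/
theorem rl_ree_lie_bound {K : Type*} [Field K] [Fintype K] (m : ℕ) (hm : 1 ≤ m)
    (hK : Fintype.card K = 3 ^ (2 * m + 1)) (k : ℕ)
    (ρ : Representation ℂ (Cfsg.Lie.twistedG2 K (3 ^ m)) (Fin k → ℂ)) (hirr : ρ.IsIrreducible)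
    (hk : 2 ≤ k) : (3 ^ (2 * m + 1)) ^ 2 - 3 ^ (2 * m + 1) + 1 ≤ k := by
  have := charP_three_of_card (by omega) hK
  obtain ⟨g, hg⟩ := exists_ne_one_of_irreducible ρ hirr hk
  have := (ree_S1073 hm hK).1
  have hker : MonoidHom.ker ρ = ⊥ := by
    rcases (MonoidHom.normal_ker ρ).eq_bot_or_eq_top with h1 | h1
    · exact h1
    · exfalso
      apply hg
      have : g ∈ MonoidHom.ker ρ := by rw [h1]; exact Subgroup.mem_top g
      exact MonoidHom.mem_ker.mp this
  have hinj : Function.Injective ρ := (MonoidHom.ker_eq_bot_iff ρ).mp hker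
  have h := rl_bound hm hK ρ hinj
  rwa [Module.finrank_fin_fun] at h

end Cfsg.Agent.ReeLS
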